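import Cfsg.Agent.Fusion91.PSU.Borel
import Cfsg.Agent.Fusion91.TwoLocal
import Cfsg.Agent.Lib.PGroup.Basic

set_option autoImplicit false

/-! The Sylow subgroup of `PSU` has no proper strongly closed subgroup. -/

namespace Cfsg.Agent.Fusion91.PSU

open Cfsg.Agent.Unitary

variable {F : Type*} [Field F] {n q r : ℕ} [Fintype F] (hF : Fintype.card F = q ^ 2) (B : Frame F n q r)

theorem Qel_ext {u u' w w' : Fin n → F} {b b' : F} (hu : herm q u u = 0) (hu' : herm q u' u' = 0)
    (hwu : herm q w u = 0) (hwu' : herm q w' u' = 0) (hb : b + b ^ q = -herm q w w)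
    (hb' : b' + b' ^ q = -herm q w' w') (e1 : u = u') (e2 : w = w') (e3 : b = b') :
    Qel hF hu hwu hb = Qel hF hu' hwu' hb' := by
  subst e1 e2 e3
  rfl

theorem tv_ext {u u' : Fin n → F} {c c' : F} (hu : herm q u u = 0) (hu' : herm q u' u' = 0)
    (hc : c + c ^ q = 0) (hc' : c' + c' ^ q = 0) (e1 : u = u') (e2 : c = c') :
    tv hF hu hc = tv hF hu' hc' := by
  subst e1 e2
  rfl

theorem tv_smul_left {u : Fin n → F} {c a : F} (hu : herm q u u = 0) (hu' : herm q (a • u) (a • u) = 0)
    (hc : c + c ^ q = 0) (hc' : c * a ^ (q + 1) + (c * a ^ (q + 1)) ^ q = 0) :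
    tv hF hu' hc = tv hF hu hc' := by
  refine eq_of_smul_eq_SU fun x => ?_
  rw [tv_smul, tv_smul, herm_smul_right hF, smul_smul, pow_succ]
  congr 2
  ring

include hF in
/-- All the transvections, from one. -/
theorem tv_closure (hn : 4 ≤ n) (T : Subgroup (SU n F q))
    (hmove : ∀ t ∈ T, ∀ g, g * t * g⁻¹ ∈ U B → g * t * g⁻¹ ∈ T) {k : Fin r} {c₀ : F}
    (hc₀ : c₀ + c₀ ^ q = 0) (hc0 : c₀ ≠ 0) (hT : tv hF (B.uu k) hc₀ ∈ T)
    {u : Fin n → F} {c : F} (hu : herm q u u = 0) (hc : c + c ^ q = 0) (hU : tv hF hu hc ∈ U B) :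
    tv hF hu hc ∈ T := by
  by_cases hu0 : u = 0
  · rw [show tv hF hu hc = 1 from eq_of_smul_eq_SU fun x => by
      rw [tv_smul, hu0, smul_zero, add_zero, one_smul]]
    exact one_mem _
  by_cases hcz : c = 0
  · rw [show tv hF hu hc = 1 from eq_of_smul_eq_SU fun x => by
      rw [tv_smul, hcz, zero_mul, zero_smul, add_zero, one_smul]]
    exact one_mem _
  have hfix : (c / c₀) ^ q = c / c₀ := by
    rw [div_pow, eq_neg_of_add_eq_zero_right hc, eq_neg_of_add_eq_zero_right hc₀, neg_div_neg_eq]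
  obtain ⟨a, ha⟩ := exists_norm_eq hF hfix
  have ha0 : a ≠ 0 := fun e => by
    rw [e, zero_pow (by omega)] at ha
    exact div_ne_zero hcz hc0 ha.symm
  have hau : herm q (a • u) (a • u) = 0 := by
    rw [herm_smul_left, herm_smul_right hF, hu, mul_zero, mul_zero]
  obtain ⟨v, hvS, hv, huv⟩ := exists_partner hF (S := ∅) (u := a • u) (by simp [supp_empty]) hau
    (smul_ne_zero ha0 hu0)
  obtain ⟨t, -, htu, -⟩ := exists_move_pair hF (S := (∅ : Finset (Fin n)))
    (by rw [Finset.compl_empty, Finset.card_univ, Fintype.card_fin]; omega)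
    (Or.inl (by rw [Finset.compl_empty, Finset.card_univ, Fintype.card_fin]; omega))
    (u := B.u k) (v := B.v k) (u' := a • u) (v' := v) (by simp [supp_empty]) (by simp [supp_empty])
    (B.uu k) (B.vv k) (B.uv k) (by simp [supp_empty]) hvS hau hv huv
  have e : c₀ * a ^ (q + 1) = c := by rw [ha]; field_simp
  have h := conj_tv hF t (B.uu k) hc₀
  rw [tv_ext hF _ hau hc₀ hc₀ htu rfl, tv_smul_left hF hu hau hc₀ (by rw [e]; exact hc),
    tv_ext hF hu hu _ hc rfl e] at h
  rw [← h] at hU ⊢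
  exact hmove _ hT t hU

include hF in
theorem noClosed_Ubar (p : ℕ) [Fact p.Prime] [CharP F p] (hn : 4 ≤ n) (hr : 2 ≤ r) :
    NoClosed (Ubar B) := by
  classical
  intro T hTU hT hcl
  refine le_antisymm hTU ?_
  set T' : Subgroup (SU n F q) := T.comap pr ⊓ U B with hT'
  have hmove : ∀ t ∈ T', ∀ g, g * t * g⁻¹ ∈ U B → g * t * g⁻¹ ∈ T' := fun t ht g hg =>
    ⟨by
      show pr (g * t * g⁻¹) ∈ T
      rw [map_mul, map_mul, map_inv]
      refine hcl _ ht.1 _ ?_
      rw [← map_inv, ← map_mul, ← map_mul]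
      exact pr_mem_Ubar B hg, hg⟩
  suffices hUT : U B ≤ T' by
    rintro _ ⟨x, hx, rfl⟩
    exact (hUT hx).1
  have hr0 : 0 < r := by omega
  set i0 : Fin r := ⟨0, hr0⟩
  set i1 : Fin r := ⟨1, by omega⟩
  have h10 : i1 ≠ i0 := by simp [i0, i1]
  set u := B.u i0 with hudef
  set v := B.v i0 with hvdef
  have hu : herm q u u = 0 := B.uu i0
  have huv' : herm q u v = 1 := B.uv i0
  -- a central element
  have hUp : IsPGroup p (Ubar B) := (isPGroup_U hF B p).map pr
  have hTn : (T.subgroupOf (Ubar B)).Normal := ⟨fun x hx s =>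
    Subgroup.mem_subgroupOf.mpr (hcl _ (Subgroup.mem_subgroupOf.mp hx) _ (s * x * s⁻¹ : Ubar B).2)⟩
  have hTne : T.subgroupOf (Ubar B) ≠ ⊥ := by
    intro h
    rw [Subgroup.subgroupOf_eq_bot, disjoint_iff, inf_eq_left.mpr hTU] at h
    exact hT h
  obtain ⟨⟨y, hy⟩, hy1⟩ :=
    Subgroup.ne_bot_iff_exists_ne_one.mp (Cfsg.Agent.PGroup.inf_center_ne_bot hUp hTne)
  obtain ⟨z, hz, hzy⟩ := y.2
  have hzT : z ∈ T' := ⟨show pr z ∈ T by rw [hzy]; exact Subgroup.mem_subgroupOf.mp hy.1, hz⟩
  have hz1 : z ≠ 1 := by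
    intro e
    apply hy1
    apply Subtype.ext; apply Subtype.ext
    show (y : Cfsg.PSU n F q) = 1
    rw [← hzy, e, map_one]
  have hzc : ∀ x ∈ U B, z * x = x * z := fun x hx => by
    refine pr_injOn hF B (by omega) hr0 (mul_mem hz hx) (mul_mem hx hz) ?_
    rw [map_mul, map_mul, hzy]
    exact (congrArg Subtype.val (Subgroup.mem_center_iff.mp hy.2 ⟨_, pr_mem_Ubar B hx⟩)).symm
  have hzu : z • u = u := U_fix_zero B hz rfl
  obtain ⟨w₀, b₀, hw₀u, hb₀, hw₀v, rfl⟩ := radPt_eq_Qel hF hu (B.vv i0) huv'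
    (mem_radPt_of_commute hF hu huv' hzu fun x hx => hzc x (radPt_le_U hF B rfl hx))
  have hw₀ : w₀ = 0 := by
    have hperp : ∀ w, herm q w u = 0 → herm q w v = 0 → herm q w w₀ = 0 := by
      intro w hwu hwv
      by_contra hne
      refine conjHom_ne_id hF (RingHom.ext fun x => ?_)
      show x ^ q = x
      set l := x / herm q w w₀ with hl
      have hlu : herm q (l • w) u = 0 := by rw [herm_smul_left, hwu, mul_zero]
      obtain ⟨b, hb⟩ := exists_trace_eq hF (t := -herm q (l • w) (l • w))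
        (by rw [neg_pow_q hF, herm_self_fixed hF])
      have h := congrArg (fun g : SU n F q => herm q (g • v) v)
        (hzc _ (Qel_mem_U hF B i0 hlu hb fun j hj => by
          obtain rfl : j = i0 := le_antisymm hj (Fin.le_def.mpr (Nat.zero_le _))
          exact hlu))
      rw [← hvdef] at hw₀v
      simp only [mul_smul, Qel_smul, ← hudef, (herm_eq_zero_comm hF).mp hwu, (herm_eq_zero_comm hF).mp hw₀u, herm_one_swap hF huv', herm_add_left, herm_sub_left,
        herm_smul_left, herm_smul_right hF, hwu, hw₀u, hw₀v, hwv, hu, huv', hvdef ▸ B.vv i0,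
        (herm_eq_zero_comm hF).mp hwv, (herm_eq_zero_comm hF).mp hw₀v, mul_zero, zero_mul, mul_one,
        one_mul, add_zero, zero_add, sub_zero, zero_sub] at h
      have hxw : l * herm q w w₀ = x := div_mul_cancel₀ x hne
      rw [← hxw, mul_pow, ← herm_swap hF w w₀]
      linear_combination h
    have := eq_smul_of_perp hF hu huv' (d := w₀) fun w hw => by
      set w' := w - herm q w v • u with hw'
      have h1 : herm q w' w₀ = 0 := by
        refine hperp w' ?_ ?_
        · rw [hw', herm_sub_left, herm_smul_left, hw, hu, mul_zero, sub_zero]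
        · rw [hw', herm_sub_left, herm_smul_left, huv', mul_one, sub_self]
      rw [hw', herm_sub_left, herm_smul_left, (herm_eq_zero_comm hF).mp hw₀u, mul_zero, sub_zero] at h1
      exact (herm_eq_zero_comm hF).mp h1
    rw [this, hw₀v, zero_smul]
  subst hw₀
  have hb₀' : b₀ + b₀ ^ q = 0 := by rw [hb₀, herm_zero_left, neg_zero]
  have hstart : tv hF hu hb₀' ∈ T' := hzT
  have hb₀0 : b₀ ≠ 0 := by
    intro e
    refine hz1 (eq_of_smul_eq_SU fun x => ?_)
    rw [Qel_smul, e, herm_zero_right hF]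
    simp
  have htv : ∀ {x : Fin n → F} {c : F} (hx : herm q x x = 0) (hc : c + c ^ q = 0),
      x ∈ flag B r → tv hF hx hc ∈ T' := fun hx hc hxW =>
    tv_closure hF B hn T' hmove hb₀' hb₀0 hstart hx hc (tv_mem_U hF B hxW hx hc)
  have huW : u ∈ flag B r := u_mem_flag B i0.isLt
  have h1W : B.u i1 ∈ flag B r := u_mem_flag B i1.isLt
  -- elements attached to the first point
  set P : (Fin n → F) → Prop := fun w =>
    ∃ (hwu : herm q w u = 0) (b : F) (hb : b + b ^ q = -herm q w w), Qel hF hu hwu hb ∈ T' with hP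
  have hall : ∀ {w : Fin n → F}, P w → ∀ (hwu : herm q w u = 0) (b : F)
      (hb : b + b ^ q = -herm q w w), Qel hF hu hwu hb ∈ T' := by
    rintro w ⟨hwu, b', hb', hm⟩ hwu' b hb
    have hd : (b - b') + (b - b') ^ q = 0 := by
      rw [sub_pow_q hF]; linear_combination hb - hb'
    rw [show Qel hF hu hwu' hb = Qel hF hu hwu hb' * tv hF hu hd from eq_of_smul_eq_SU fun x => by
      rw [mul_smul, tv_smul, smul_add, smul_comm, Qel_smul, Qel_smul, Qel_smul, hu,
        (herm_eq_zero_comm hF).mp hwu]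
      module]
    exact mul_mem hm (htv hu hd huW)
  have hadd : ∀ {x y : Fin n → F}, P x → P y → P (x + y) := by
    rintro x y ⟨hxu, a, ha, hx⟩ ⟨hyu, b, hb, hy⟩
    refine ⟨by rw [herm_add_left, hxu, hyu, add_zero], _, Qel_add_cond hF ha hb, ?_⟩
    rw [← Qel_mul_Qel hF hu hxu ha hyu hb (Qel_add_cond hF ha hb)]
    exact mul_mem hx hy
  have hline : ∀ a : F, P (a • u) := by
    intro a
    have hau : herm q (a • u) u = 0 := by rw [herm_smul_left, hu, mul_zero]
    have hb : (0 : F) + (0 : F) ^ q = -herm q (a • u) (a • u) := by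
      rw [zero_pow_q hF, add_zero, herm_smul_left, herm_smul_right hF, hu, mul_zero, mul_zero, neg_zero]
    have hd : (a - a ^ q) + (a - a ^ q) ^ q = 0 := by
      rw [sub_pow_q hF, pow_q_pow_q hF]; ring
    refine ⟨hau, 0, hb, ?_⟩
    rw [show Qel hF hu hau hb = tv hF hu hd from eq_of_smul_eq_SU fun x => by
      rw [Qel_smul, tv_smul, herm_smul_right hF]; module]
    exact htv hu hd huW
  have hshort : ∀ μ : F, P (μ • B.u i1) := by
    intro μ
    set l := μ / b₀ with hl
    have hwu : herm q (μ • B.u i1) u = 0 := by rw [herm_smul_left, huu hF B, mul_zero]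
    have hb : (0 : F) + (0 : F) ^ q = -herm q (μ • B.u i1) (μ • B.u i1) := by
      rw [zero_pow_q hF, add_zero, herm_smul_left, herm_smul_right hF, B.uu, mul_zero, mul_zero, neg_zero]
    have h1 : herm q (u + l • B.u i1) (u + l • B.u i1) = 0 :=
      herm_flag_flag hF B (Submodule.add_mem _ huW (Submodule.smul_mem _ _ h1W))
        (Submodule.add_mem _ huW (Submodule.smul_mem _ _ h1W))
    have h2 : herm q (l • B.u i1) (l • B.u i1) = 0 :=
      herm_flag_flag hF B (Submodule.smul_mem _ _ h1W) (Submodule.smul_mem _ _ h1W)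
    have hneg : -b₀ + (-b₀) ^ q = 0 := by rw [neg_pow_q hF]; linear_combination -hb₀'
    have hμ : b₀ * l = μ := by rw [hl]; field_simp
    refine ⟨hwu, 0, hb, ?_⟩
    rw [show Qel hF hu hwu hb = tv hF h1 hb₀' * tv hF hu hneg * tv hF h2 hneg from
      eq_of_smul_eq_SU fun x => by
        rw [mul_smul, mul_smul, Qel_smul]
        simp only [tv_smul, herm_add_left, herm_smul_left, herm_add_right hF, herm_smul_right hF,
          huu hF B, hu, hudef, mul_zero, add_zero, zero_mul, zero_smul]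
        rw [← hμ, mul_pow, eq_neg_of_add_eq_zero_right hb₀']
        module]
    exact mul_mem (mul_mem (htv h1 hb₀' (Submodule.add_mem _ huW (Submodule.smul_mem _ _ h1W)))
      (htv hu hneg huW)) (htv h2 hneg (Submodule.smul_mem _ _ h1W))
  have hiso : ∀ w, herm q w u = 0 → herm q w w = 0 → P w := by
    intro w hwu hww
    by_cases hl : ∃ a : F, w = a • u
    · obtain ⟨a, rfl⟩ := hl; exact hline a
    simp only [not_exists] at hl
    obtain ⟨g, b, hgu, hgx⟩ := exists_orth_move hF (by omega) hu (u_ne_zero hF B i0) (B.uu i1)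
      (huu hF B i0 i1) (fun a e => by
        have := congrArg (fun x => herm q x (B.v i1)) e
        simp only [hudef, herm_smul_left, huv hF B, if_true, if_neg h10.symm, mul_zero] at this
        exact one_ne_zero this)
      hww ((herm_eq_zero_comm hF).mp hwu) hl
    have hb0 : b ≠ 0 := fun e => u_ne_zero hF B i1 (by
      rwa [e, zero_smul, smul_eq_zero_iff_eq] at hgx)
    have hb : (0 : F) + (0 : F) ^ q = -herm q w w := by rw [zero_pow_q hF, add_zero, hww, neg_zero]
    refine ⟨hwu, 0, hb, ?_⟩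
    obtain ⟨hwu', b', hb', hm⟩ := hshort b⁻¹
    have hb'' : (0 : F) + (0 : F) ^ q = -herm q (b⁻¹ • B.u i1) (b⁻¹ • B.u i1) := by
      rw [zero_pow_q hF, add_zero, herm_smul_left, herm_smul_right hF, B.uu, mul_zero, mul_zero, neg_zero]
    have hm' := hall ⟨hwu', b', hb', hm⟩ hwu' 0 hb''
    have h := conj_Qel hF g hu hwu' hb''
    rw [Qel_ext hF _ hu _ hwu _ hb hgu (by rw [smul_comm, hgx, smul_smul, inv_mul_cancel₀ hb0, one_smul]) rfl] at h
    rw [← h]
    refine hmove _ hm' g ?_
    rw [h]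
    exact Qel_mem_U hF B i0 hwu hb fun j hj => by
      obtain rfl : j = i0 := le_antisymm hj (Fin.le_def.mpr (Nat.zero_le _))
      exact hwu
  set S₀ : Finset (Fin n) := {B.ci i0, B.cj i0} with hS₀
  have hperp0 : ∀ y : Fin n → F, y ∈ supp S₀ → herm q y u = 0 := fun y hy => by
    refine herm_supp hF hy fun i hi => B.usupp i0 i ?_
    rw [Finset.mem_compl]
    exact hi
  have hsupp : ∀ w ∈ supp S₀, P w := by
    intro w hw
    have hcard : 2 ≤ S₀ᶜ.card := by
      rw [Finset.card_compl, Fintype.card_fin, hS₀, Finset.card_pair (B.ne i0)]; omega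
    have hc := exists_sum_isotropic hF hcard hw
    clear hw
    induction hc using AddSubmonoid.closure_induction with
    | mem y hy => exact hiso y (hperp0 y hy.1) hy.2
    | zero => simpa using hline 0
    | add x y _ _ hx hy => exact hadd hx hy
  have hP1 : ∀ w, herm q w u = 0 → P w := by
    intro w hw
    have : w = (w - herm q w v • u) + herm q w v • u := (sub_add_cancel _ _).symm
    rw [this]
    refine hadd (hsupp _ fun i hi => ?_) (hline _)
    rw [hS₀, Finset.mem_insert, Finset.mem_singleton] at hi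
    refine apply_eq_zero hF B i0 ?_ ?_ hi
    · rw [herm_sub_left, herm_smul_left, hw, hu, mul_zero, sub_zero]
    · rw [herm_sub_left, herm_smul_left, huv', mul_one, sub_self]
  -- all elements of the radicals of points
  have hQ : ∀ {x w : Fin n → F} {b : F} (hx : herm q x x = 0) (hwx : herm q w x = 0)
      (hb : b + b ^ q = -herm q w w), x ≠ 0 → Qel hF hx hwx hb ∈ U B → Qel hF hx hwx hb ∈ T' := by
    intro x w b hx hwx hb hx0 hmem
    obtain ⟨y, hyS, hy, hxy⟩ := exists_partner hF (S := ∅) (u := x) (by simp [supp_empty]) hx hx0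
    obtain ⟨t, -, htu, -⟩ := exists_move_pair hF (S := (∅ : Finset (Fin n)))
      (by rw [Finset.compl_empty, Finset.card_univ, Fintype.card_fin]; omega)
      (Or.inl (by rw [Finset.compl_empty, Finset.card_univ, Fintype.card_fin]; omega))
      (u := u) (v := v) (u' := x) (v' := y) (by simp [supp_empty]) (by simp [supp_empty])
      hu (B.vv i0) huv' (by simp [supp_empty]) hyS hx hy hxy
    have hw' : herm q (t⁻¹ • w) u = 0 := by rw [← herm_smul_SU t, smul_inv_smul, htu, hwx]
    have hb' : b + b ^ q = -herm q (t⁻¹ • w) (t⁻¹ • w) := by rw [herm_smul_SU, hb]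
    have hm := hall (hP1 _ hw') hw' b hb'
    have h := conj_Qel hF t hu hw' hb'
    rw [Qel_ext hF _ hx _ hwx _ hb htu (smul_inv_smul t w) rfl] at h
    rw [← h] at hmem ⊢
    exact hmove _ hm t hmem
  suffices ∀ j k : ℕ, k + j = r → level B k ≤ T' by
    have := this r 0 (by omega)
    rwa [level_zero] at this
  intro j
  induction j with
  | zero => intro k hk; rw [show k = r by omega, level_top hF B]; exact bot_le
  | succ j ih =>
    intro k hk g hg
    obtain ⟨w, b, hwu, hb, hQU, -, hrest⟩ := level_peel hF B (k := ⟨k, by omega⟩) hg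
    have := mul_mem (hQ (B.uu _) hwu hb (u_ne_zero hF B _) hQU) (ih (k + 1) (by omega) hrest)
    rwa [mul_inv_cancel_left] at this

end Cfsg.Agent.Fusion91.PSU
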