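import Cfsg.Agent.Fusion91.PSU.Borel

set_option autoImplicit false

/-! The normalizer of the Sylow subgroup of `PSU` is generated inside two maximal parabolics. -/

namespace Cfsg.Agent.Fusion91.PSU

open Cfsg.Agent.Unitary
open Cfsg.FusionSystem (centralizerIn)

variable {F : Type*} [Field F] {n q r : ℕ} [Fintype F] (hF : Fintype.card F = q ^ 2) (B : Frame F n q r)

theorem flag_zero {k : ℕ} (hk : k = 0) : flag B k = ⊥ := by
  rw [flag, Submodule.span_eq_bot]
  rintro x ⟨l, hl, rfl⟩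
  exact absurd (hk ▸ hl : (l : ℕ) < 0) (Nat.not_lt_zero _)

include hF in
/-- A diagonal element of the Levi subgroup normalizes the unipotent group. -/
theorem mem_normalizer_of_diag {h : SU n F q} (hd : ∀ k, ∃ a : F, a ≠ 0 ∧ h • B.u k = a • B.u k) :
    h ∈ Subgroup.normalizer (U B : Set (SU n F q)) := by
  refine PSL.mem_normalizer_of_maps fun e he k => ?_
  obtain ⟨a, ha, hk⟩ := hd k
  have hi : h⁻¹ • B.u k = a⁻¹ • B.u k := by
    rw [inv_smul_eq_iff, smul_comm, hk, smul_smul, inv_mul_cancel₀ ha, one_smul]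
  have h1 := smul_mem_flag B (g := h) (k := k) (fun l hl => by
    obtain ⟨b, -, hb⟩ := hd l
    rw [hb]
    exact Submodule.smul_mem _ _ (u_mem_flag B hl)) (Submodule.smul_mem _ a⁻¹ (he k))
  rwa [smul_sub, ← smul_comm e, ← hi, smul_sub, smul_inv_smul, ← mul_smul, ← mul_smul] at h1

section levi

variable {i j : Fin r}

include hF in
theorem levi_cond_perp (hij : i ≠ j) (s : F) : herm q ((-s) ^ q • B.v j) (B.u i) = 0 := by
  rw [herm_smul_left, hvu hF B, if_neg hij.symm, mul_zero]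

include hF in
theorem levi_cond_trace (s : F) :
    (0 : F) + (0 : F) ^ q = -herm q ((-s) ^ q • B.v j) ((-s) ^ q • B.v j) := by
  rw [zero_pow_q hF, add_zero, herm_smul_left, herm_smul_right hF, B.vv, mul_zero, mul_zero, neg_zero]

/-- A root element of the Levi subgroup of the totally isotropic subspace. -/
def levi (hij : i ≠ j) (s : F) : SU n F q :=
  Qel hF (B.uu i) (levi_cond_perp hF B hij s) (levi_cond_trace hF B s)

theorem levi_smul (hij : i ≠ j) (s : F) (l : Fin r) :
    levi hF B hij s • B.u l = B.u l + (if l = j then s else 0) • B.u i := by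
  rw [levi, Qel_smul, huu hF B, herm_smul_right hF, pow_q_pow_q hF, huv hF B]
  split_ifs <;> simp

theorem levi_mem_stabW (hij : i ≠ j) (s : F) : levi hF B hij s ∈ stabW B := fun l => by
  rw [levi_smul]
  exact Submodule.add_mem _ (u_mem_flag B l.isLt) (Submodule.smul_mem _ _ (u_mem_flag B i.isLt))

theorem levi_mem_radPt (hij : i ≠ j) (s : F) : levi hF B hij s ∈ radPt (B.u i) :=
  Qel_mem_radPt hF _ _ _

/-- The Weyl element of the first root. -/
def weyl (hij : i ≠ j) (a : F) : SU n F q :=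
  levi hF B hij a * levi hF B hij.symm (-a⁻¹) * levi hF B hij a

theorem weyl_smul (hij : i ≠ j) {a : F} (ha : a ≠ 0) :
    weyl hF B hij a • B.u i = (-a⁻¹) • B.u j ∧ weyl hF B hij a • B.u j = a • B.u i ∧
      ∀ l, l ≠ i → l ≠ j → weyl hF B hij a • B.u l = B.u l := by
  refine ⟨?_, ?_, fun l hli hlj => ?_⟩ <;>
    simp only [weyl, mul_smul, levi_smul, smul_add, if_true, if_neg hij, if_neg hij.symm, zero_smul,
      add_zero, smul_comm (levi hF B hij a), smul_comm (levi hF B hij.symm (-a⁻¹))]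
  · match_scalars <;> field_simp <;> ring
  · match_scalars <;> field_simp <;> ring
  · simp [hli, hlj, levi_smul]

theorem weyl_mul_smul (hij : i ≠ j) {a : F} (ha : a ≠ 0) :
    (weyl hF B hij a * weyl hF B hij (-1)) • B.u i = a • B.u i ∧
      ∀ l, ∃ b : F, b ≠ 0 ∧ (weyl hF B hij a * weyl hF B hij (-1)) • B.u l = b • B.u l := by
  obtain ⟨h1, h2, h3⟩ := weyl_smul hF B hij ha
  obtain ⟨k1, k2, k3⟩ := weyl_smul hF B hij (neg_ne_zero.mpr (one_ne_zero : (1 : F) ≠ 0))
  have hi : (weyl hF B hij a * weyl hF B hij (-1)) • B.u i = a • B.u i := by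
    rw [mul_smul, k1, smul_comm, h2]
    simp
  refine ⟨hi, fun l => ?_⟩
  by_cases hli : l = i
  · subst hli; exact ⟨a, ha, hi⟩
  by_cases hlj : l = j
  · subst hlj
    refine ⟨a⁻¹, inv_ne_zero ha, ?_⟩
    rw [mul_smul, k2, smul_comm, h1]
    simp
  exact ⟨1, one_ne_zero, by rw [mul_smul, k3 l hli hlj, h3 l hli hlj, one_smul]⟩

end levi

variable (p : ℕ) [Fact p.Prime] [CharP F p]

omit [CharP F p] in
theorem orderOf_pr {x : SU n F q} {m : ℕ} (h : x ^ p ^ m = 1) :
    ∃ k : ℕ, orderOf (pr x) = p ^ k := by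
  obtain ⟨k, -, hk⟩ := (Nat.dvd_prime_pow (Fact.out : p.Prime)).mp
    (orderOf_dvd_of_pow_eq_one (show pr x ^ p ^ m = 1 by rw [← map_pow, h, map_one]))
  exact ⟨k, hk⟩

omit [CharP F p] in
/-- The subgroup generated by the `p`-elements normalizing `R`. -/
def pGen (R : Subgroup (SU n F q)) : Subgroup (Cfsg.PSU n F q) :=
  Subgroup.closure {g | g ∈ Subgroup.normalizer ((R.map pr : Subgroup _) : Set (Cfsg.PSU n F q)) ∧
    ∃ k : ℕ, orderOf g = p ^ k}

omit [CharP F p] in
theorem mem_pGen {R : Subgroup (SU n F q)} {y : SU n F q} {m : ℕ} (hy : y ^ p ^ m = 1)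
    (h : ∀ x ∈ R, y * x * y⁻¹ ∈ R) : pr y ∈ pGen p R := by
  refine Subgroup.subset_closure ⟨PSL.mem_normalizer_of_maps ?_, orderOf_pr p hy⟩
  rintro _ ⟨x, hx, rfl⟩
  exact ⟨_, h x hx, by rw [map_mul, map_mul, map_inv]⟩

include hF in
theorem U_mem_pGen {R : Subgroup (SU n F q)} (hR : ∀ y ∈ U B, ∀ x ∈ R, y * x * y⁻¹ ∈ R)
    {y : SU n F q} (hy : y ∈ U B) : pr y ∈ pGen p R := by
  obtain ⟨m, hm⟩ := isPGroup_U hF B p ⟨y, hy⟩
  exact mem_pGen p (congrArg Subtype.val hm) (hR y hy)

include hF in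
theorem mem_genSub_of_pGen (hn : 2 ≤ n) (hr : 0 < r) {R : Subgroup (SU n F q)} (hRU : R ≤ U B)
    (hR : ∀ y ∈ U B, ∀ x ∈ R, y * x * y⁻¹ ∈ R)
    (hc : ∀ z ∈ U B, (∀ x ∈ R, z * x = x * z) → z ∈ R) {g : SU n F q}
    (hg : g ∈ Subgroup.normalizer (U B : Set (SU n F q))) (hgp : pr g ∈ pGen p R) :
    pr g ∈ genSub p (Ubar B) := by
  have h1 : R.map pr ≤ Ubar B := Subgroup.map_mono hRU
  have h2 : Ubar B ≤ Subgroup.normalizer ((R.map pr : Subgroup _) : Set (Cfsg.PSU n F q)) := by
    rintro _ ⟨y, hy, rfl⟩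
    refine PSL.mem_normalizer_of_maps ?_
    rintro _ ⟨x, hx, rfl⟩
    exact ⟨_, hR y hy x hx, by rw [map_mul, map_mul, map_inv]⟩
  have h3 : centralizerIn (Ubar B) (R.map pr) ≤ R.map pr := by
    rintro _ ⟨⟨z, hz, rfl⟩, hzc⟩
    refine ⟨z, hc z hz fun x hx => ?_, rfl⟩
    refine pr_injOn hF B hn hr (mul_mem hz (hRU hx)) (mul_mem (hRU hx) hz) ?_
    rw [map_mul, map_mul]
    exact (Subgroup.mem_centralizer_iff.mp hzc _ ⟨x, hx, rfl⟩).symm
  refine Subgroup.mem_sup_right (Subgroup.mem_iSup_of_mem (R.map pr)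
    (Subgroup.mem_iSup_of_mem ⟨h1, h2, h3⟩ (Subgroup.mem_inf.mpr ⟨?_, hgp⟩)))
  refine PSL.mem_normalizer_of_maps ?_
  rintro _ ⟨x, hx, rfl⟩
  exact ⟨_, (Subgroup.mem_normalizer_iff.mp hg x).mp hx, by rw [map_mul, map_mul, map_inv]⟩

include hF in
theorem smul_zero_of_normalizer {g : SU n F q} (hg : g ∈ Subgroup.normalizer (U B : Set (SU n F q)))
    {k : Fin r} (hk : (k : ℕ) = 0) : g • B.u k = coef B g k • B.u k := by
  have h := smul_u_eq hF B (smul_u_mem_flag hF B hg) k
  rwa [flag_zero B hk, Submodule.mem_bot, sub_eq_zero] at h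

include hF p in
theorem normalizer_le_genSub (hn : 4 ≤ n) (hr : r = n / 2) :
    Subgroup.normalizer ((Ubar B : Subgroup _) : Set (Cfsg.PSU n F q)) ≤ genSub p (Ubar B) := by
  classical
  intro x hx
  obtain ⟨g, rfl⟩ := QuotientGroup.mk'_surjective _ x
  have hr0 : 0 < r := by omega
  have hn2 : 2 ≤ n := by omega
  have hg : g ∈ Subgroup.normalizer (U B : Set (SU n F q)) := by
    refine PSL.mem_normalizer_of_maps fun y hy => conj_mem_U_of_maps hF B p hn2 hr0 (fun z hz => ?_) hy
    rw [map_mul, map_mul, map_inv]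
    exact (Subgroup.mem_normalizer_iff.mp hx _).mp (pr_mem_Ubar B hz)
  set i0 : Fin r := ⟨0, hr0⟩
  set i1 : Fin r := ⟨1, by omega⟩
  have h01 : i0 ≠ i1 := by simp [i0, i1]
  set a := coef B g i0 with hadef
  have ha : a ≠ 0 := coef_ne_zero hF B hg i0
  set h := weyl hF B h01 a * weyl hF B h01 (-1) with hh
  obtain ⟨hhu, hdiag⟩ := weyl_mul_smul hF B h01 ha
  have hhN : h ∈ Subgroup.normalizer (U B : Set (SU n F q)) := mem_normalizer_of_diag hF B hdiag
  set g₁ := h⁻¹ * g with hg₁
  have hg₁N : g₁ ∈ Subgroup.normalizer (U B : Set (SU n F q)) :=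
    Subgroup.mul_mem _ (Subgroup.inv_mem _ hhN) hg
  have hg₁u : g₁ • B.u i0 = B.u i0 := by
    rw [hg₁, mul_smul, smul_zero_of_normalizer hF B hg rfl, ← hadef, inv_smul_eq_iff, hhu]
  show pr g ∈ _
  rw [show g = h * g₁ by rw [hg₁, mul_inv_cancel_left], map_mul]
  refine mul_mem ?_ ?_
  · -- the stabiliser of the totally isotropic subspace
    have hR : ∀ y ∈ U B, ∀ x ∈ radW B, y * x * y⁻¹ ∈ radW B := fun y hy x hx =>
      conj_mem_radW hF B (U_le_stabW B hy) hx
    refine mem_genSub_of_pGen hF B p hn2 hr0 (radW_le_U B) hR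
      (fun z hz hc => mem_radW_of_commute hF B p hz hc) hhN ?_
    have key : ∀ {i j : Fin r} (hij : i ≠ j) (s : F),
        pr (levi hF B hij s) ∈ pGen p (radW B) := fun hij s =>
      mem_pGen p (radPt_pow hF p (B.uu _) (B.uv _) (levi_mem_radPt hF B hij s))
        fun x hx => conj_mem_radW hF B (levi_mem_stabW hF B hij s) hx
    simp only [hh, weyl, map_mul]
    exact mul_mem (mul_mem (mul_mem (key _ _) (key _ _)) (key _ _))
      (mul_mem (mul_mem (key _ _) (key _ _)) (key _ _))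
  -- the stabiliser of the point
  have hu : herm q (B.u i0) (B.u i0) = 0 := B.uu i0
  have hfixN : ∀ {y : SU n F q}, y • B.u i0 = B.u i0 → ∀ x ∈ radPt (B.u i0),
      y * x * y⁻¹ ∈ radPt (B.u i0) := fun hy x hx =>
    conj_mem_radPt one_ne_zero (by rw [hy, one_smul]) hx
  have hR : ∀ y ∈ U B, ∀ x ∈ radPt (B.u i0), y * x * y⁻¹ ∈ radPt (B.u i0) := fun y hy =>
    hfixN (U_fix_zero B hy rfl)
  refine mem_genSub_of_pGen hF B p hn2 hr0 (radPt_le_U hF B rfl) hR
    (fun z hz hc => mem_radPt_of_commute hF (B.uu i0) (B.uv i0) (U_fix_zero B hz rfl) hc) hg₁N ?_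
  obtain ⟨w, b, hwu, hb, -, -, hQu, hQv⟩ := exists_Qel_agree hF hu (B.vv i0) (B.uv i0) hg₁u
  set Q := Qel hF hu hwu hb
  have hQU : Q ∈ U B := radPt_le_U hF B rfl (Qel_mem_radPt hF hu hwu hb)
  set g₂ := Q⁻¹ * g₁ with hg₂
  rw [show g₁ = Q * g₂ by rw [hg₂, mul_inv_cancel_left], map_mul]
  refine mul_mem (U_mem_pGen hF B p hR hQU) ?_
  have hg₂N : g₂ ∈ Subgroup.normalizer (U B : Set (SU n F q)) :=
    Subgroup.mul_mem _ (Subgroup.inv_mem _ (Subgroup.le_normalizer hQU)) hg₁N
  have hg₂u : g₂ • B.u i0 = B.u i0 := by rw [hg₂, mul_smul, hg₁u, inv_smul_eq_iff, hQu]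
  have hg₂v : g₂ • B.v i0 = B.v i0 := by rw [hg₂, mul_smul, inv_smul_eq_iff, hQv]
  set S₀ : Finset (Fin n) := {B.ci i0, B.cj i0} with hS₀
  have hfS : g₂ ∈ fixS S₀ := mem_fixS.mpr fun i hi =>
    fix_eI hF B i0 hg₂u hg₂v (by simpa [hS₀] using hi)
  have hcard : S₀ᶜ.card = n - 2 := by
    rw [Finset.card_compl, Fintype.card_fin, hS₀, Finset.card_pair (B.ne i0)]
  have hperp0 : ∀ y : Fin n → F, y ∈ supp S₀ → herm q y (B.u i0) = 0 := fun y hy =>
    herm_supp hF hy fun i hi => B.usupp i0 i (Finset.mem_compl.mpr hi)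
  by_cases hex : n = 5 ∧ q = 2
  · -- the exceptional case
    obtain ⟨hn5, hq2⟩ := hex
    have hr2 : r = 2 := by omega
    set c := coef B g₂ i1 with hc
    have hlt : ∀ k : Fin r, k = i0 ∨ k = i1 := fun k => by
      have : (k : ℕ) = 0 ∨ (k : ℕ) = 1 := by have := k.isLt; omega
      exact this.imp (fun e => Fin.ext e) fun e => Fin.ext e
    have hflag1 := smul_u_eq hF B (smul_u_mem_flag hF B hg₂N) i1
    have hfinish : ∀ t : SU n F q, t • B.u i0 = B.u i0 → t • B.u i1 = c • B.u i1 →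
        pr t ∈ pGen p (radPt (B.u i0)) → pr g₂ ∈ pGen p (radPt (B.u i0)) := by
      intro t ht0 ht1 htp
      have hm : t⁻¹ * g₂ ∈ U B := by
        intro k
        rcases hlt k with rfl | rfl
        · rw [mul_smul, hg₂u, inv_smul_eq_iff.mpr ht0.symm, sub_self]
          exact Submodule.zero_mem _
        · have h1 := smul_mem_flag B (g := t⁻¹) (k := i1) (fun l hl => by
            obtain rfl : l = i0 := Fin.ext (by have h' : (l : ℕ) < 1 := hl; show (l : ℕ) = 0; omega)
            rw [inv_smul_eq_iff.mpr ht0.symm]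
            exact u_mem_flag B hl) hflag1
          rwa [← hc, ← ht1, smul_sub, inv_smul_smul, ← mul_smul] at h1
      have := mul_mem htp (U_mem_pGen hF B p hR hm)
      rwa [← map_mul, mul_inv_cancel_left] at this
    by_cases hc1 : c = 1
    · exact hfinish 1 (one_smul _ _) (by rw [hc1, one_smul, one_smul]) (by rw [map_one]; exact one_mem _)
    have hc0 : c ≠ 0 := coef_ne_zero hF B hg₂N i1
    have hc4 : c ^ 4 = c := by
      have := FiniteField.pow_card c
      rwa [hF, hq2] at this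
    have hc3 : c ^ 2 + c + 1 = 0 := by
      have h0 : c * (c - 1) * (c ^ 2 + c + 1) = 0 := by linear_combination hc4
      exact (mul_eq_zero.mp h0).resolve_left (mul_ne_zero hc0 (sub_ne_zero.mpr hc1))
    obtain ⟨m, hm⟩ : ∃ m, ∀ k, m ≠ B.ci k ∧ m ≠ B.cj k := by
      by_contra hno
      simp only [not_exists, not_forall, not_and_or, not_not] at hno
      have hsub : (Finset.univ : Finset (Fin n)) ⊆ Finset.univ.image B.ci ∪ Finset.univ.image B.cj :=
        fun m _ => by
          obtain ⟨k, hk⟩ := hno m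
          rcases hk with hk | hk
          · exact Finset.mem_union_left _ (hk ▸ Finset.mem_image_of_mem _ (Finset.mem_univ k))
          · exact Finset.mem_union_right _ (hk ▸ Finset.mem_image_of_mem _ (Finset.mem_univ k))
      have := (Finset.card_le_card hsub).trans ((Finset.card_union_le _ _).trans
        (Nat.add_le_add Finset.card_image_le Finset.card_image_le))
      simp only [Finset.card_univ, Fintype.card_fin] at this
      omega
    have hxu : ∀ k, herm q (eI m) (B.u k) = 0 := fun k => by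
      rw [herm_eI_left, B.usupp k m ((mem_pair_compl B).mpr (hm k)), zero_pow_q hF]
    have hxv : ∀ k, herm q (eI m) (B.v k) = 0 := fun k => by
      rw [herm_eI_left, B.vsupp k m ((mem_pair_compl B).mpr (hm k)), zero_pow_q hF]
    have hxx : herm q (eI m : Fin n → F) (eI m) = 1 := by rw [herm_eI_eI hF, if_pos rfl]
    have h2 : (2 : F) = 0 := by
      obtain ⟨p', e, hp', he, hchar, hqe⟩ := exists_prime_pow hF
      have : p' = 2 := ((Nat.prime_dvd_prime_iff_eq hp' Nat.prime_two).mp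
        (hq2 ▸ hqe ▸ dvd_pow_self p' he.ne'))
      subst this
      exact CharTwo.two_eq_zero
    set u := B.u i1
    set v := B.v i1
    have hu1 : herm q u u = 0 := B.uu i1
    have hv1 : herm q v v = 0 := B.vv i1
    have hc' : c + c ^ q = -1 := by rw [hq2]; linear_combination hc3
    have hnorm : -c * (-c) ^ q = 1 := by
      rw [hq2]; linear_combination (1 - c) * hc3 + (-(1 : F)) * h2
    have hyv : herm q ((-c) • (eI m : Fin n → F)) v = 0 := by rw [herm_smul_left, hxv, mul_zero]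
    have hcy : c + c ^ q = -herm q ((-c) • (eI m : Fin n → F)) ((-c) • eI m) := by
      rw [herm_smul_left, herm_smul_right hF, hxx, mul_one, hnorm, hc']
    have hone : (1 : F) + (1 : F) ^ q = 0 := by rw [one_pow]; linear_combination h2
    set A := Qel hF hu1 (hxu i1) (show c + c ^ q = -herm q (eI m : Fin n → F) (eI m) by rw [hxx, hc'])
    set C := Qel hF hv1 hyv hcy
    set A₁ := tv hF hu1 hone
    set C₁ := tv hF hv1 hone
    have huv1 : herm q u v = 1 := B.uv i1
    have hvu1 : herm q v u = 1 := herm_one_swap hF huv1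
    have hux := (herm_eq_zero_comm hF).mp (hxu i1)
    have hvx := (herm_eq_zero_comm hF).mp (hxv i1)
    have hAu : A • u = u := (Qel_mem_radPt hF hu1 _ _).1
    have e1 : A • C • A • u = c • v := by
      have hCu : C • u = u + (-c) • (eI m : Fin n → F) + c • v := by
        rw [show C • u = u + (herm q u v • ((-c) • (eI m : Fin n → F))
          - herm q u ((-c) • (eI m : Fin n → F)) • v + (c * herm q u v) • v) from
            Qel_smul hF _ _ _ _, huv1, herm_smul_right hF, hux]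
        simp only [one_smul, mul_one, mul_zero, zero_smul, sub_zero]
        abel
      have hAx : A • (eI m : Fin n → F) = eI m - u := by
        rw [show A • (eI m : Fin n → F) = _ from Qel_smul hF _ _ _ _, hxu i1, hxx]
        simp [sub_eq_add_neg]
      have hAv : A • v = v + eI m + c • u := by
        rw [show A • v = _ from Qel_smul hF _ _ _ _, hvu1, hvx]
        simp only [one_smul, mul_one, zero_smul, sub_zero]
        abel
      rw [hAu, hCu, smul_add, smul_add, hAu, smul_comm A (-c), smul_comm A c, hAx, hAv]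
      match_scalars <;> first | linear_combination hc3 | ring
    have e2 : A₁ • C₁ • A₁ • v = u := by
      simp only [A₁, C₁, tv_smul, smul_add, smul_comm (tv hF hu1 hone), smul_comm (tv hF hv1 hone),
        hu1, hv1, huv1, hvu1, mul_one, mul_zero, zero_smul, add_zero]
      match_scalars <;> linear_combination h2
    refine hfinish (A₁ * C₁ * A₁ * (A * C * A)) ?_ ?_ ?_
    · have hb0 : ∀ {y z : Fin n → F} {e : F} (hy : herm q y y = 0) (hz : herm q z y = 0)
          (he : e + e ^ q = -herm q z z), herm q (B.u i0) y = 0 → herm q (B.u i0) z = 0 →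
          Qel hF hy hz he • B.u i0 = B.u i0 := fun hy hz he h1 h2 => by
        rw [Qel_smul, h1, h2]; simp
      have h0u : herm q (B.u i0) u = 0 := huu hF B i0 i1
      have h0v : herm q (B.u i0) v = 0 := by rw [huv hF B, if_neg h01]
      have h0x : herm q (B.u i0) (eI m) = 0 := (herm_eq_zero_comm hF).mp (hxu i0)
      have hA₁ : A₁ • B.u i0 = B.u i0 := hb0 _ _ _ h0u (herm_zero_right hF _)
      have hC₁ : C₁ • B.u i0 = B.u i0 := hb0 _ _ _ h0v (herm_zero_right hF _)
      have hA : A • B.u i0 = B.u i0 := hb0 _ _ _ h0u h0x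
      have hC : C • B.u i0 = B.u i0 := hb0 _ _ _ h0v (by rw [herm_smul_right hF, h0x, mul_zero])
      simp only [mul_smul, hA, hC, hA₁, hC₁]
    · simp only [mul_smul]
      rw [e1, smul_comm A₁ c, smul_comm C₁ c, smul_comm A₁ c, e2]
    · have key : ∀ {y z : Fin n → F} {e : F} (hy : herm q y y = 0) (hz : herm q z y = 0)
          (he : e + e ^ q = -herm q z z) (y' : Fin n → F), herm q y y' = 1 →
          herm q (B.u i0) y = 0 → herm q (B.u i0) z = 0 →
          pr (Qel hF hy hz he) ∈ pGen p (radPt (B.u i0)) := fun hy hz he y' hyy' h1 h2 =>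
        mem_pGen p (radPt_pow hF p hy hyy' (Qel_mem_radPt hF hy hz he))
          (hfixN (by rw [Qel_smul, h1, h2]; simp))
      have h0u : herm q (B.u i0) u = 0 := huu hF B i0 i1
      have h0v : herm q (B.u i0) v = 0 := by rw [huv hF B, if_neg h01]
      have h0x : herm q (B.u i0) (eI m) = 0 := (herm_eq_zero_comm hF).mp (hxu i0)
      have hA₁ : pr A₁ ∈ pGen p (radPt (B.u i0)) := key _ _ _ v huv1 h0u (herm_zero_right hF _)
      have hC₁ : pr C₁ ∈ pGen p (radPt (B.u i0)) := key _ _ _ u hvu1 h0v (herm_zero_right hF _)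
      have hA : pr A ∈ pGen p (radPt (B.u i0)) := key _ _ _ v huv1 h0u h0x
      have hC : pr C ∈ pGen p (radPt (B.u i0)) :=
        key _ _ _ u hvu1 h0v (by rw [herm_smul_right hF, h0x, mul_zero])
      simp only [map_mul]
      exact mul_mem (mul_mem (mul_mem hA₁ hC₁) hA₁) (mul_mem (mul_mem hA hC) hA)
  · refine (show tvGroup hF S₀ ≤ (pGen p (radPt (B.u i0))).comap pr from ?_)
      (fixS_le_tvGroup hF (by rw [hcard]; exact fun h => hex ⟨by omega, h.2⟩) hfS)
    refine (Subgroup.closure_le _).mpr ?_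
    rintro _ ⟨y, c, hy, hc, hyS, rfl⟩
    show pr (tv hF hy hc) ∈ pGen p (radPt (B.u i0))
    have h0 : herm q (B.u i0) y = 0 := (herm_eq_zero_comm hF).mp (hperp0 y hyS)
    by_cases hy0 : y = 0
    · rw [show tv hF hy hc = 1 from eq_of_smul_eq_SU fun x => by
        rw [tv_smul, hy0, smul_zero, add_zero, one_smul], map_one]
      exact one_mem _
    obtain ⟨y', -, -, hyy'⟩ := exists_partner hF (S := ∅) (u := y) (by simp [supp_empty]) hy hy0
    refine mem_pGen p (radPt_pow hF p hy hyy' (Qel_mem_radPt hF hy (herm_zero_left y)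
      (by rw [hc, herm_zero_left, neg_zero]))) (hfixN ?_)
    rw [tv_smul, h0, mul_zero, zero_smul, add_zero]

end Cfsg.Agent.Fusion91.PSU
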