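import Cfsg.Agent.Fusion91.PSU.Closed
import Cfsg.Agent.Fusion91.PSU.Gen

set_option autoImplicit false

/-! The `p`-fusion system of `PSU_n(q)` in the defining characteristic is simple. -/

namespace Cfsg.Agent.Fusion91.PSU

open Cfsg.Agent.Unitary

variable {F : Type*} [Field F] [Fintype F] (p : ℕ) [Fact p.Prime] [CharP F p]

include p in
theorem psu_simple {n q : ℕ} (hF : Fintype.card F = q ^ 2) (hn : 4 ≤ n)
    (S : Sylow p (Cfsg.PSU n F q)) :
    (Cfsg.groupFusionSystem (S : Subgroup (Cfsg.PSU n F q))).IsSimple p := by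
  obtain ⟨B⟩ := exists_frame (n := n) hF
  have hn2 : 2 ≤ n := by omega
  have hr : 0 < n / 2 := by omega
  refine groupFusion_simple_of_one p (sylow hF B p hn2 hr) ?_ ?_ ?_ S <;> rw [sylow_coe]
  · intro h
    set i : Fin (n / 2) := ⟨0, hr⟩
    obtain ⟨c, hc0, hc⟩ := exists_trace_zero_ne_zero hF
    have hU : tv hF (B.uu i) hc ∈ U B := tv_mem_U hF B (u_mem_flag B i.isLt) (B.uu i) hc
    have hm : pr (tv hF (B.uu i) hc) ∈ Ubar B := pr_mem_Ubar B hU
    rw [h, Subgroup.mem_bot, ← map_one pr] at hm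
    have h1 := pr_injOn hF B hn2 hr hU (one_mem _) hm
    have h2 := congrArg (fun g : SU n F q => g • B.v i) h1
    rw [tv_smul, one_smul, herm_one_swap hF (B.uv i), mul_one, add_eq_left, smul_eq_zero] at h2
    exact h2.elim hc0 (u_ne_zero hF B i)
  · exact noClosed_Ubar hF B p hn (by omega)
  · exact normalizer_le_genSub hF B p hn rfl

end Cfsg.Agent.Fusion91.PSU
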